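import Cfsg.Agent.WordLaw.General
import Cfsg.Prelude.Def_Classical
import Mathlib.LinearAlgebra.Matrix.Permutation
import Mathlib.Data.Matrix.Block
import Mathlib.LinearAlgebra.Matrix.SchurComplement

set_option autoImplicit false

namespace Cfsg.Agent.WordLaw.Classical

open Matrix Cfsg.Agent.WordLaw

variable {F : Type*} [Field F]

/-- the block embedding of `2 × 2` matrices -/
def blockHom (n : ℕ) :
    Matrix (Fin 2) (Fin 2) F →* Matrix (Fin (2 + n)) (Fin (2 + n)) F where
  toFun M := (fromBlocks M 0 0 1).reindex finSumFinEquiv finSumFinEquiv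
  map_one' := by simp [fromBlocks_one]
  map_mul' M N := by simp [Matrix.submatrix_mul_equiv, fromBlocks_multiply]

theorem blockHom_det (n : ℕ) (M : Matrix (Fin 2) (Fin 2) F) : (blockHom n M).det = M.det := by
  simp [blockHom]

theorem blockHom_injective (n : ℕ) : Function.Injective (blockHom (F := F) n) := by
  intro M N h
  exact (fromBlocks_inj.mp ((reindex finSumFinEquiv finSumFinEquiv).injective h)).1

/-- `SL₂` in the upper left corner -/
def sl2Block (n : ℕ) :
    SpecialLinearGroup (Fin 2) F →* Matrix (Fin (2 + n)) (Fin (2 + n)) F where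
  toFun M := blockHom n M.1
  map_one' := by simp
  map_mul' M N := by simp

theorem sl2Block_injective (n : ℕ) : Function.Injective (sl2Block (F := F) n) :=
  fun _ _ h => Subtype.ext (blockHom_injective n h)

/-- permutation matrices of even permutations -/
def altMat (n : ℕ) : alternatingGroup (Fin n) →* Matrix (Fin n) (Fin n) F :=
  (permMatrixHom (n := Fin n) (R := F)).comp (alternatingGroup (Fin n)).subtype

theorem altMat_injective (n : ℕ) : Function.Injective (altMat (F := F) n) := by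
  intro a b h
  apply Subtype.ext
  apply inv_injective
  apply Equiv.ext
  intro i
  have h1 := congrFun (congrFun h i) ((a : Equiv.Perm (Fin n))⁻¹ i)
  simp only [altMat, MonoidHom.comp_apply, permMatrixHom_apply, Subgroup.coe_subtype,
    Equiv.Perm.permMatrix, PEquiv.toMatrix_apply, Equiv.toPEquiv_apply, Option.mem_some_iff] at h1
  simpa [eq_comm] using h1

theorem altMat_det (n : ℕ) (s : alternatingGroup (Fin n)) : (altMat (F := F) n s).det = 1 := by
  have h : Equiv.Perm.sign (s : Equiv.Perm (Fin n)) = 1 := Equiv.Perm.mem_alternatingGroup.mp s.2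
  simp [altMat, h]

/-- restrict a matrix hom of determinant one to `SL` -/
def toSL {K : Type*} [Group K] {n : ℕ} (β : K →* Matrix (Fin n) (Fin n) F)
    (h : ∀ k, (β k).det = 1) : K →* SpecialLinearGroup (Fin n) F where
  toFun k := ⟨β k, h k⟩
  map_one' := Subtype.ext (map_one β)
  map_mul' a b := Subtype.ext (map_mul β a b)

theorem toSL_injective {K : Type*} [Group K] {n : ℕ} (β : K →* Matrix (Fin n) (Fin n) F)
    (h : ∀ k, (β k).det = 1) (hβ : Function.Injective β) : Function.Injective (toSL β h) :=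
  fun _ _ e => hβ (congrArg Subtype.val e)

theorem toHomUnits_injective {K : Type*} [Group K] {n : ℕ}
    (β : K →* Matrix (Fin n) (Fin n) F) (hβ : Function.Injective β) :
    Function.Injective β.toHomUnits :=
  fun _ _ e => hβ (congrArg Units.val e)

/-! ### `GL n` inside symplectic and orthogonal groups -/

variable {n : ℕ}

/-- `g ↦ diag(g, g⁻ᵀ)` -/
def dbl : GL (Fin n) F →* Matrix (Fin n ⊕ Fin n) (Fin n ⊕ Fin n) F where
  toFun g := fromBlocks (g : Matrix (Fin n) (Fin n) F) 0 0
    ((g⁻¹ : GL (Fin n) F) : Matrix (Fin n) (Fin n) F)ᵀ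
  map_one' := by simp [fromBlocks_one]
  map_mul' g h := by simp [fromBlocks_multiply, _root_.mul_inv_rev, transpose_mul]

theorem dbl_injective : Function.Injective (dbl (F := F) (n := n)) :=
  fun _ _ h => Units.ext (fromBlocks_inj.mp h).1

theorem dbl_mem (g : GL (Fin n) F) : dbl g ∈ Matrix.symplecticGroup (Fin n) F := by
  rw [SymplecticGroup.mem_iff]
  simp [dbl, Matrix.J, fromBlocks_multiply, fromBlocks_transpose, ← transpose_mul]

/-- `GL n` inside `Sp 2n` -/
def toSp : GL (Fin n) F →* Matrix.symplecticGroup (Fin n) F :=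
  dbl.codRestrict _ dbl_mem

theorem toSp_injective : Function.Injective (toSp (F := F) (n := n)) :=
  fun _ _ h => dbl_injective (congrArg Subtype.val h)

theorem dbl_pairing (g : GL (Fin n) F) (v : Fin n ⊕ Fin n → F) :
    ∑ i, (dbl g *ᵥ v) (Sum.inl i) * (dbl g *ᵥ v) (Sum.inr i) =
      ∑ i, v (Sum.inl i) * v (Sum.inr i) := by
  simp only [dbl, MonoidHom.coe_mk, OneHom.coe_mk, fromBlocks_mulVec, Sum.elim_inl, Sum.elim_inr,
    zero_mulVec, add_zero, zero_add]
  show ((g : Matrix (Fin n) (Fin n) F) *ᵥ (v ∘ Sum.inl)) ⬝ᵥ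
    (((g⁻¹ : GL (Fin n) F) : Matrix (Fin n) (Fin n) F)ᵀ *ᵥ (v ∘ Sum.inr)) =
      (v ∘ Sum.inl) ⬝ᵥ (v ∘ Sum.inr)
  rw [dotProduct_mulVec, vecMul_transpose, mulVec_mulVec, ← Units.val_mul, inv_mul_cancel,
    Units.val_one, one_mulVec]

/-- `GL n` into the matrices for the odd orthogonal form -/
def oddMat : GL (Fin n) F →* Matrix (Unit ⊕ (Fin n ⊕ Fin n)) (Unit ⊕ (Fin n ⊕ Fin n)) F where
  toFun g := fromBlocks 1 0 0 (dbl g)
  map_one' := by simp [fromBlocks_one]
  map_mul' g h := by simp [fromBlocks_multiply]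

/-- `GL n` into the matrices for the minus type orthogonal form -/
def minusMat :
    GL (Fin n) F →* Matrix ((Fin n ⊕ Fin n) ⊕ Fin 2) ((Fin n ⊕ Fin n) ⊕ Fin 2) F where
  toFun g := fromBlocks (dbl g) 0 0 1
  map_one' := by simp [fromBlocks_one]
  map_mul' g h := by simp [fromBlocks_multiply]

/-- a matrix hom preserving a quadratic form, into the isometry group -/
def toIso {K : Type*} [Group K] {ι : Type} [Fintype ι] [DecidableEq ι] {Q : (ι → F) → F}
    (β : K →* Matrix ι ι F) (h : ∀ k v, Q (β k *ᵥ v) = Q v) :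
    K →* Cfsg.isometryGroup F Q :=
  β.toHomUnits.codRestrict _ (fun k u _ => h k u)

theorem toIso_injective {K : Type*} [Group K] {ι : Type} [Fintype ι] [DecidableEq ι]
    {Q : (ι → F) → F} (β : K →* Matrix ι ι F) (h : ∀ k v, Q (β k *ᵥ v) = Q v)
    (hβ : Function.Injective β) : Function.Injective (toIso β h) :=
  fun _ _ e => hβ (congrArg (fun x : Cfsg.isometryGroup F Q => (x.1 : Matrix ι ι F)) e)

theorem plus_pres (g : GL (Fin n) F) (v : Fin n ⊕ Fin n → F) :
    Cfsg.quadFormPlus n F (dbl g *ᵥ v) = Cfsg.quadFormPlus n F v :=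
  dbl_pairing g v

theorem odd_pres (g : GL (Fin n) F) (v : Unit ⊕ (Fin n ⊕ Fin n) → F) :
    Cfsg.quadFormOdd n F (oddMat g *ᵥ v) = Cfsg.quadFormOdd n F v := by
  simp only [Cfsg.quadFormOdd, oddMat, MonoidHom.coe_mk, OneHom.coe_mk, fromBlocks_mulVec,
    Sum.elim_inl, Sum.elim_inr, zero_mulVec, add_zero, zero_add, one_mulVec, dbl_pairing]
  rfl

theorem minus_pres (a b : F) (g : GL (Fin n) F) (v : (Fin n ⊕ Fin n) ⊕ Fin 2 → F) :
    Cfsg.quadFormMinus n F a b (minusMat g *ᵥ v) = Cfsg.quadFormMinus n F a b v := by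
  simp only [Cfsg.quadFormMinus, minusMat, MonoidHom.coe_mk, OneHom.coe_mk, fromBlocks_mulVec,
    Sum.elim_inl, Sum.elim_inr, zero_mulVec, add_zero, zero_add, one_mulVec, dbl_pairing]
  rfl

theorem oddMat_injective : Function.Injective (oddMat (F := F) (n := n)) :=
  fun _ _ h => dbl_injective (fromBlocks_inj.mp h).2.2.2

theorem minusMat_injective : Function.Injective (minusMat (F := F) (n := n)) :=
  fun _ _ h => dbl_injective (fromBlocks_inj.mp h).1

/-! ### unitary -/

/-- the elements of `SL₂` over the fixed field of `σ` -/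
def fixedSL (σ : F →+* F) : Subgroup (SpecialLinearGroup (Fin 2) F) :=
  MonoidHom.eqLocus (SpecialLinearGroup.map σ) (MonoidHom.id _)

theorem mem_SU_of {q n : ℕ} (σ : F →+* F) (hσ : ∀ x, σ x = x ^ q)
    (A : SpecialLinearGroup (Fin n) F) (hA : A.1ᵀ * A.1.map σ = 1) : A ∈ Cfsg.SU n F q := by
  intro u v
  have e : ∀ u v : Fin n → F, Cfsg.hermForm n F q u v = u ⬝ᵥ (fun i => σ (v i)) := by
    intro u v; simp [Cfsg.hermForm, dotProduct, hσ]
  have e2 : (fun i => σ ((A.1 *ᵥ v) i)) = A.1.map σ *ᵥ (fun i => σ (v i)) := by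
    funext i; simp [Matrix.mulVec, dotProduct, map_sum]
  show Cfsg.hermForm n F q (A.1 *ᵥ u) (A.1 *ᵥ v) = _
  rw [e, e, e2, dotProduct_comm, dotProduct_mulVec, ← mulVec_transpose, mulVec_mulVec, hA,
    one_mulVec, dotProduct_comm]

/-- codomain restriction into `SU` -/
def toSU {K : Type*} [Group K] {q n : ℕ} (σ : F →+* F) (hσ : ∀ x, σ x = x ^ q)
    (β : K →* Matrix (Fin n) (Fin n) F) (hdet : ∀ k, (β k).det = 1)
    (h : ∀ k, (β k)ᵀ * (β k).map σ = 1) : K →* Cfsg.SU n F q :=
  (toSL β hdet).codRestrict _ (fun k => mem_SU_of σ hσ _ (h k))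

theorem altMat_unitary (σ : F →+* F) (s : alternatingGroup (Fin n)) :
    (altMat (F := F) n s)ᵀ * (altMat (F := F) n s).map σ = 1 := by
  have hm : (altMat (F := F) n s).map σ = altMat (F := F) n s := by
    ext i j
    simp only [altMat, MonoidHom.comp_apply, permMatrixHom_apply, Equiv.Perm.permMatrix,
      Matrix.map_apply, PEquiv.toMatrix_apply]
    split <;> simp
  rw [hm]
  simp [altMat, transpose_permMatrix, ← permMatrix_mul]

theorem blockHom_unitary (σ : F →+* F) (k : ℕ) (A : Matrix (Fin 2) (Fin 2) F)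
    (hA : Aᵀ * A.map σ = 1) : (blockHom k A)ᵀ * (blockHom k A).map σ = 1 := by
  simp [blockHom, ← submatrix_map, Matrix.transpose_submatrix, Matrix.submatrix_mul_equiv,
    fromBlocks_map, fromBlocks_transpose, fromBlocks_multiply, hA]

section finite

variable [Fintype F]

theorem exists_conj {q : ℕ} (hF : Fintype.card F = q ^ 2) :
    ∃ σ : F →+* F, (∀ x, σ x = x ^ q) ∧ (∀ x, σ (σ x) = x) := by
  obtain ⟨k, hp, hk⟩ := FiniteField.card F (ringChar F)
  obtain ⟨j, -, hj⟩ := (Nat.dvd_prime_pow hp).mp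
    (⟨q, by rw [← sq, ← hF, hk]⟩ : q ∣ ringChar F ^ (k : ℕ))
  haveI : Fact (ringChar F).Prime := ⟨hp⟩
  refine ⟨iterateFrobenius F (ringChar F) j, fun x => by rw [iterateFrobenius_def, hj],
    fun x => ?_⟩
  rw [iterateFrobenius_def, iterateFrobenius_def, ← pow_mul, ← hj, ← sq, ← hF,
    FiniteField.pow_card]

theorem exists_unitary_data {q : ℕ} (hF : Fintype.card F = q ^ 2) (σ : F →+* F)
    (hσ : ∀ x, σ x = x ^ q) (hσσ : ∀ x, σ (σ x) = x) :
    ∃ P : Matrix (Fin 2) (Fin 2) F, ∃ d : F, d ≠ 0 ∧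
      Pᵀ * P.map σ = !![0, d; -d, 0] := by
  have hq : 2 ≤ q := by
    by_contra h
    have : q ^ 2 ≤ 1 ^ 2 := Nat.pow_le_pow_left (by omega) 2
    have := Fintype.one_lt_card (α := F)
    omega
  obtain ⟨g, hg⟩ := IsCyclic.exists_generator (α := Fˣ)
  have hord : orderOf g = q ^ 2 - 1 := by
    rw [orderOf_eq_card_of_forall_mem_zpowers hg, Nat.card_units, Nat.card_eq_fintype_card, hF]
  have hfac : q ^ 2 - 1 = (q + 1) * (q - 1) := by simpa using Nat.sq_sub_sq q 1
  have hlt : q - 1 < q ^ 2 - 1 := by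
    rw [hfac]; exact lt_mul_left (by omega) (by omega)
  have hneg : ((-1 : Fˣ)) ^ (q - 1) = 1 := by
    rcases (FiniteField.card F (ringChar F)) with ⟨k, hp, hk⟩
    rcases Nat.even_or_odd q with he | ho
    · have h2 : (2 : F) = 0 := by
        have : 2 ∣ ringChar F ^ (k : ℕ) := by
          rw [← hk, hF]; exact dvd_pow he.two_dvd (by omega)
        have h2 := (Nat.prime_dvd_prime_iff_eq Nat.prime_two hp).mp (Nat.prime_two.dvd_of_dvd_pow this)
        have := ringChar.Nat.cast_ringChar (R := F)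
        rw [← h2] at this
        exact_mod_cast this
      have : (-1 : Fˣ) = 1 := Units.ext (by push_cast; linear_combination -h2)
      rw [this, one_pow]
    · exact Even.neg_one_pow (Nat.Odd.sub_odd ho odd_one)
  obtain ⟨k, hk⟩ := (mem_powers_iff_mem_zpowers.mpr (hg (-1)) : (-1 : Fˣ) ∈ Submonoid.powers g)
  have hk' : g ^ k = -1 := hk
  have hdvd : q + 1 ∣ k := by
    rw [← hk', ← pow_mul] at hneg
    have := orderOf_dvd_of_pow_eq_one hneg
    rw [hord, hfac] at this
    exact Nat.dvd_of_mul_dvd_mul_right (by omega) this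
  obtain ⟨k', hk''⟩ := hdvd
  set x : Fˣ := g ^ k'
  set z : Fˣ := g ^ (q - 1)
  have hx : (x : F) * σ x = -1 := by
    rw [hσ, ← pow_succ', ← Units.val_pow_eq_pow_val, ← pow_mul, mul_comm k', ← hk'', hk']
    simp
  have hz : (z : F) * σ z = 1 := by
    rw [hσ, ← pow_succ', ← Units.val_pow_eq_pow_val, ← pow_mul, mul_comm (q - 1), ← hfac, ← hord,
      pow_orderOf_eq_one]
    simp
  have hz1 : (z : F) ≠ 1 := by
    intro h
    have h' : g ^ (q - 1) = 1 := Units.ext h
    have := orderOf_dvd_of_pow_eq_one h'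
    rw [hord] at this
    exact absurd (Nat.le_of_dvd (by omega) this) (by omega)
  have hgmov : σ (g : F) ≠ g := by
    intro h
    rw [hσ, ← Units.val_pow_eq_pow_val] at h
    have h' : g ^ (q - 1) = 1 := by
      have h1 : g ^ q = g := Units.ext h
      rw [← Nat.sub_add_cancel (show 1 ≤ q by omega), pow_succ] at h1
      exact mul_eq_right.mp h1
    exact hz1 (by rw [show z = 1 from h']; rfl)
  set d : F := g - σ g
  have hd : σ d = -d := by simp [d, map_sub, hσσ]
  have hd0 : d ≠ 0 := sub_ne_zero.mpr (Ne.symm hgmov)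
  have hden : 1 - σ (z : F) ≠ 0 := by
    intro h
    apply hz1
    rw [← hσσ (z : F), ← sub_eq_zero.mp h, map_one]
  set c : F := σ (d / (1 - σ (z : F)))
  have hc : σ c * (1 - σ (z : F)) = d := by simp [c, hσσ, hden]
  have hc' : c * (1 - (z : F)) = -d := by
    rw [← hd, ← hc, map_mul, hσσ, map_sub, map_one, hσσ]
  refine ⟨!![1, c; (x : F), c * z * x], d, hd0, ?_⟩
  ext i j
  fin_cases i <;> fin_cases j <;> simp [Matrix.mul_apply, Fin.sum_univ_two]
  · linear_combination hx
  · linear_combination (σ c * σ (z : F)) * hx + hc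
  · linear_combination (c * (z : F)) * hx + hc'
  · linear_combination (c * σ c * (z : F) * σ (z : F)) * hx - (c * σ c) * hz

theorem exists_fixed_set {q : ℕ} (hF : Fintype.card F = q ^ 2) (σ : F →+* F)
    (hσ : ∀ x, σ x = x ^ q) : ∃ S : Finset F, S.card = q - 1 ∧ ∀ t ∈ S, σ t = t := by
  classical
  obtain ⟨g, hg⟩ := IsCyclic.exists_generator (α := Fˣ)
  have hord : orderOf g = q ^ 2 - 1 := by
    rw [orderOf_eq_card_of_forall_mem_zpowers hg, Nat.card_units, Nat.card_eq_fintype_card, hF]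
  have hfac : q ^ 2 - 1 = (q + 1) * (q - 1) := by simpa using Nat.sq_sub_sq q 1
  refine ⟨(Finset.range (q - 1)).image (fun i => ((g ^ ((q + 1) * i) : Fˣ) : F)), ?_, ?_⟩
  · rw [Finset.card_image_of_injOn, Finset.card_range]
    intro i hi j hj h
    simp only [Finset.coe_range, Set.mem_Iio] at hi hj
    have h' := pow_injOn_Iio_orderOf (x := g)
      (by rw [Set.mem_Iio, hord, hfac]; exact Nat.mul_lt_mul_of_pos_left hi (by omega))
      (by rw [Set.mem_Iio, hord, hfac]; exact Nat.mul_lt_mul_of_pos_left hj (by omega))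
      (Units.ext h)
    exact Nat.eq_of_mul_eq_mul_left (by omega) h'
  · intro t ht
    obtain ⟨i, hi, rfl⟩ := Finset.mem_image.mp ht
    simp only [Finset.mem_range] at hi
    rw [hσ, ← Units.val_pow_eq_pow_val, ← pow_mul]
    have e : (q + 1) * i * q = (q + 1) * i + orderOf g * i := by
      rw [hord, hfac]
      obtain ⟨r, rfl⟩ : ∃ r, q = r + 1 := ⟨q - 1, by omega⟩
      rw [Nat.add_sub_cancel]; ring
    rw [e, pow_add, pow_mul g (orderOf g), pow_orderOf_eq_one, one_pow, mul_one]

end finite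

end Cfsg.Agent.WordLaw.Classical
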