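import Cfsg.Agent.WordLaw.SL2
import Mathlib.GroupTheory.QuotientGroup.Basic
import Mathlib.GroupTheory.SpecificGroups.Alternating
import Mathlib.GroupTheory.Perm.Subgroup
import Mathlib.FieldTheory.Finite.Basic
import Mathlib.GroupTheory.Abelianization.Defs
import Mathlib.Data.Nat.Prime.Infinite
import Mathlib.Algebra.Field.ZMod

set_option autoImplicit false

namespace Cfsg.Agent.WordLaw

open Matrix

/-- `w` takes a noncentral value in `K`. -/
def NoncentralValue (K : Type*) [Group K] (w : FreeGroup ℕ) : Prop :=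
  ∃ f : ℕ → K, ∃ k : K, k * FreeGroup.lift f w ≠ FreeGroup.lift f w * k

theorem lift_comp {K H : Type*} [Group K] [Group H] (ψ : K →* H) (f : ℕ → K) (w : FreeGroup ℕ) :
    FreeGroup.lift (fun i => ψ (f i)) w = ψ (FreeGroup.lift f w) := by
  have h : ψ.comp (FreeGroup.lift f) = FreeGroup.lift (fun i => ψ (f i)) := by
    ext i; simp
  exact (DFunLike.congr_fun h w).symm

theorem NoncentralValue.map {K H : Type*} [Group K] [Group H] {w : FreeGroup ℕ}
    (h : NoncentralValue K w) (ψ : K →* H) (hψ : Function.Injective ψ) : NoncentralValue H w := by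
  obtain ⟨f, k, hk⟩ := h
  refine ⟨fun i => ψ (f i), ψ k, ?_⟩
  rw [lift_comp, ← map_mul, ← map_mul]
  exact hψ.ne hk

theorem NoncentralValue.exists_quot {H : Type*} [Group H] {w : FreeGroup ℕ}
    (h : NoncentralValue H w) :
    ∃ f : ℕ → H ⧸ Subgroup.center H, FreeGroup.lift f w ≠ 1 := by
  obtain ⟨f, k, hk⟩ := h
  refine ⟨fun i => QuotientGroup.mk' _ (f i), fun h1 => hk ?_⟩
  rw [lift_comp, QuotientGroup.mk'_apply, QuotientGroup.eq_one_iff] at h1
  exact Subgroup.mem_center_iff.mp h1 k

theorem NoncentralValue.ne_one {H : Type*} [Group H] {w : FreeGroup ℕ}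
    (h : NoncentralValue H w) : ∃ f : ℕ → H, FreeGroup.lift f w ≠ 1 := by
  obtain ⟨f, k, hk⟩ := h
  exact ⟨f, fun h1 => hk (by simp [h1])⟩

/-- A noncentral value in a commutator subgroup, pushed along an injective hom. -/
theorem NoncentralValue.map_commutator {K H : Type*} [Group K] [Group H] {w : FreeGroup ℕ}
    (h : NoncentralValue (commutator K) w) (ψ : K →* H) (hψ : Function.Injective ψ) :
    NoncentralValue (commutator H) w := by
  have hle : ∀ x : commutator K, ψ x ∈ commutator H := fun x => by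
    have h1 : Subgroup.map ψ (commutator K) ≤ commutator H := by
      rw [commutator_def, Subgroup.map_commutator, commutator_def]
      exact Subgroup.commutator_mono le_top le_top
    exact h1 (Subgroup.mem_map_of_mem ψ x.2)
  refine h.map ((ψ.comp (commutator K).subtype).codRestrict _ hle) ?_
  intro a b hab
  exact Subtype.ext (hψ (congrArg Subtype.val hab))

section sl2

variable {F : Type*} [Field F]

theorem noncomm_of_entry {z : SpecialLinearGroup (Fin 2) F} (hz : z.1 1 0 ≠ 0) :
    uu 1 * z ≠ z * uu 1 := by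
  intro h
  apply hz
  have := congrArg (fun M : SpecialLinearGroup (Fin 2) F => M.1 0 0) h
  simpa [Matrix.mul_apply, Fin.sum_univ_two] using this

end sl2

/-- For `w ≠ 1`, all large fields give noncentral values in `SL₂`. -/
theorem sl2_noncentral {w : FreeGroup ℕ} (hw : w ≠ 1) :
    ∃ N : ℕ, ∀ (F : Type*) [Field F] [Fintype F], N ≤ Fintype.card F →
      NoncentralValue (SpecialLinearGroup (Fin 2) F) w := by
  obtain ⟨D, hD⟩ := exists_bound hw
  refine ⟨D + 1, fun F _ _ hF => ?_⟩
  obtain ⟨t, -, ht⟩ := hD F Finset.univ (by rw [Finset.card_univ]; omega)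
  exact ⟨gen t, uu 1, noncomm_of_entry ht⟩

theorem uu_mem_commutator {F : Type*} [Field F] [Fintype F] (hF : 4 ≤ Fintype.card F) (a : F) :
    uu a ∈ commutator (SpecialLinearGroup (Fin 2) F) := by
  classical
  obtain ⟨l, hl0, hl⟩ : ∃ l : F, l ≠ 0 ∧ l * l ≠ 1 := by
    by_contra h
    push Not at h
    have : (Finset.univ : Finset F) ⊆ {0, 1, -1} := by
      intro x _
      by_cases hx : x = 0
      · simp [hx]
      · have := h x hx
        rcases mul_self_eq_one_iff.mp this with h1 | h1 <;> simp [h1]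
    have := (Finset.card_le_card this).trans Finset.card_le_three
    rw [Finset.card_univ] at this
    omega
  let d : SpecialLinearGroup (Fin 2) F :=
    ⟨!![l, 0; 0, l⁻¹], by simp [Matrix.det_fin_two_of, hl0]⟩
  let b := a / (l * l - 1)
  have hb : d * uu b * d⁻¹ * (uu b)⁻¹ = uu a := by
    have h1 : d * uu b = uu (l * l * b) * d := by
      apply Subtype.ext
      rw [Matrix.SpecialLinearGroup.coe_mul, Matrix.SpecialLinearGroup.coe_mul]
      simp only [d, uu_coe]
      ext i j
      fin_cases i <;> fin_cases j <;> simp [hl0] <;> field_simp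
    rw [h1, mul_inv_cancel_right, uu_inv, uu_mul]
    congr 1
    have : l * l - 1 ≠ 0 := sub_ne_zero.mpr hl
    have hb : b * (l * l - 1) = a := by simp only [b]; exact div_mul_cancel₀ a this
    linear_combination hb
  rw [← hb, ← commutatorElement_def, commutator_def]
  exact Subgroup.commutator_mem_commutator (Subgroup.mem_top _) (Subgroup.mem_top _)

theorem ll_mem_commutator {F : Type*} [Field F] [Fintype F] (hF : 4 ≤ Fintype.card F) (a : F) :
    ll a ∈ commutator (SpecialLinearGroup (Fin 2) F) := by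
  let s : SpecialLinearGroup (Fin 2) F := ⟨!![0, 1; -1, 0], by simp [Matrix.det_fin_two_of]⟩
  have h : s * uu (-a) = ll a * s := by
    apply Subtype.ext
    rw [Matrix.SpecialLinearGroup.coe_mul, Matrix.SpecialLinearGroup.coe_mul]
    simp only [s, uu_coe, ll_coe]
    ext i j
    fin_cases i <;> fin_cases j <;> simp
  have h2 : ll a = s * uu (-a) * s⁻¹ := by rw [h, mul_inv_cancel_right]
  rw [h2]
  exact (commutator_normal (G := SpecialLinearGroup (Fin 2) F)).conj_mem _ (uu_mem_commutator hF _) _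
where
  commutator_normal {G : Type _} [Group G] : (commutator G).Normal := inferInstance

theorem sl2_commutator_noncentral {w : FreeGroup ℕ} (hw : w ≠ 1) :
    ∃ N : ℕ, ∀ (F : Type*) [Field F] [Fintype F], N ≤ Fintype.card F →
      NoncentralValue (commutator (SpecialLinearGroup (Fin 2) F)) w := by
  obtain ⟨D, hD⟩ := exists_bound hw
  refine ⟨D + 4, fun F _ _ hF => ?_⟩
  obtain ⟨t, -, ht⟩ := hD F Finset.univ (by rw [Finset.card_univ]; omega)
  have h4 : 4 ≤ Fintype.card F := by omega
  refine ⟨fun i => ⟨gen t i, mul_mem (mul_mem (uu_mem_commutator h4 _) (ll_mem_commutator h4 _))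
    (uu_mem_commutator h4 _)⟩, ⟨uu 1, uu_mem_commutator h4 1⟩, fun h => noncomm_of_entry ht ?_⟩
  have h' := congrArg Subtype.val h
  simp only [Subgroup.coe_mul] at h'
  rw [← Subgroup.coe_subtype, ← lift_comp] at h'
  exact h'

/-- double a permutation: it becomes even -/
def doublePerm (α β : Type*) : Equiv.Perm α →* Equiv.Perm ((α ⊕ α) ⊕ β) where
  toFun s := Equiv.sumCongr (Equiv.sumCongr s s) 1
  map_one' := by ext x; rcases x with (x|x)|x <;> rfl
  map_mul' s t := by ext x; rcases x with (x|x)|x <;> rfl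

theorem exists_alt_hom (K : Type*) [Group K] [Finite K] (n : ℕ) (hn : 2 * Nat.card K ≤ n) :
    ∃ φ : K →* alternatingGroup (Fin n), Function.Injective φ := by
  classical
  have : Fintype K := Fintype.ofFinite K
  rw [Nat.card_eq_fintype_card] at hn
  obtain ⟨r, rfl⟩ := Nat.exists_eq_add_of_le hn
  let e : (K ⊕ K) ⊕ Fin r ≃ Fin (2 * Fintype.card K + r) :=
    Fintype.equivOfCardEq (by simp; omega)
  let ψ : K →* Equiv.Perm (Fin (2 * Fintype.card K + r)) :=
    (e.permCongrHom.toMonoidHom.comp (doublePerm K (Fin r))).comp (MulAction.toPermHom K K)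
  have hmem : ∀ k, ψ k ∈ alternatingGroup (Fin (2 * Fintype.card K + r)) := by
    intro k
    rw [Equiv.Perm.mem_alternatingGroup]
    simp [ψ, doublePerm, Int.units_mul_self]
  refine ⟨ψ.codRestrict _ hmem, fun a b hab => ?_⟩
  have h1 : ψ a = ψ b := congrArg Subtype.val hab
  have h2 := DFunLike.congr_fun (e.permCongrHom.injective h1) (Sum.inl (Sum.inl 1))
  simpa [doublePerm] using h2

theorem alt_noncentral {w : FreeGroup ℕ} (hw : w ≠ 1) :
    ∃ N : ℕ, 5 ≤ N ∧ ∀ n : ℕ, N ≤ n → NoncentralValue (alternatingGroup (Fin n)) w := by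
  obtain ⟨D, hD⟩ := exists_bound hw
  obtain ⟨p, hp, hpp⟩ := Nat.exists_infinite_primes (D + 1)
  have : Fact p.Prime := ⟨hpp⟩
  obtain ⟨t, -, ht⟩ := hD (ZMod p) Finset.univ (by rw [Finset.card_univ, ZMod.card]; omega)
  refine ⟨2 * Nat.card (SpecialLinearGroup (Fin 2) (ZMod p)) + 5, by omega, fun n hn => ?_⟩
  obtain ⟨φ, hφ⟩ := exists_alt_hom (SpecialLinearGroup (Fin 2) (ZMod p)) n (by omega)
  have hK : NoncentralValue (SpecialLinearGroup (Fin 2) (ZMod p)) w :=
    ⟨gen t, uu 1, noncomm_of_entry ht⟩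
  exact hK.map φ hφ

end Cfsg.Agent.WordLaw
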