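import Cfsg.Agent.WordLaw.SL2
import Cfsg.Prelude.Def_Sz
import Mathlib.FieldTheory.Finite.Basic
import Mathlib.Algebra.CharP.Two

set_option autoImplicit false

namespace Cfsg.Agent.WordLaw.Suzuki

open Polynomial Matrix Cfsg.Agent.WordLaw

variable {R : Type*} [CommRing R]

/-- the central root element -/
def zM (e : ℕ) (s : R) : Matrix (Fin 4) (Fin 4) R :=
  !![1, 0, 0, 0; 0, 1, 0, 0; s, 0, 1, 0; s ^ e, s, 0, 1]

/-- the antidiagonal involution -/
def wM : Matrix (Fin 4) (Fin 4) R :=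
  !![0, 0, 0, 1; 0, 0, 1, 0; 0, 1, 0, 0; 1, 0, 0, 0]

theorem zM_mul [CharP R 2] (n : ℕ) (s t : R) :
    zM (2 ^ n) s * zM (2 ^ n) t = zM (2 ^ n) (s + t) := by
  haveI : Fact (Nat.Prime 2) := ⟨Nat.prime_two⟩
  ext i j
  fin_cases i <;> fin_cases j <;>
    simp [zM, Matrix.mul_apply, Fin.sum_univ_four, add_pow_char_pow]

theorem zM_zero [CharP R 2] (n : ℕ) : zM (2 ^ n) (0 : R) = 1 := by
  ext i j
  fin_cases i <;> fin_cases j <;> simp [zM]

theorem wM_mul : (wM : Matrix (Fin 4) (Fin 4) R) * wM = 1 := by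
  ext i j
  fin_cases i <;> fin_cases j <;> simp [wM, Matrix.mul_apply, Fin.sum_univ_four]

theorem zM_map {S : Type*} [CommRing S] (f : R →+* S) (e : ℕ) (s : R) :
    f.mapMatrix (zM e s) = zM e (f s) := by
  ext i j
  fin_cases i <;> fin_cases j <;> simp [zM]

theorem wM_map {S : Type*} [CommRing S] (f : R →+* S) :
    f.mapMatrix (wM : Matrix (Fin 4) (Fin 4) R) = wM := by
  ext i j
  fin_cases i <;> fin_cases j <;> simp [wM]

/-- the matrix of a letter -/
def letterM (e : ℕ) (t : R) (x : ℕ × Bool) : Matrix (Fin 4) (Fin 4) R :=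
  zM e (t ^ lexp x) * wM * zM e (t ^ rexp x)

theorem letterM_map {S : Type*} [CommRing S] (f : R →+* S) (e : ℕ) (t : R) (x : ℕ × Bool) :
    f.mapMatrix (letterM e t x) = letterM e (f t) x := by
  simp only [letterM, map_mul, zM_map, wM_map, map_pow]

section poly

variable {F : Type*} [Field F] [CharP F 2]

theorem junctionDeg {x y : ℕ × Bool} (h : x.1 = y.1 → x.2 = y.2) :
    (X ^ rexp x + X ^ lexp y : F[X]).natDegree = max (rexp x) (lexp y) := by
  rcases lt_or_gt_of_ne (junction h) with hlt | hlt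
  · rw [natDegree_add_eq_right_of_natDegree_lt (by simpa using hlt)]
    simp [max_eq_right hlt.le]
  · rw [natDegree_add_eq_left_of_natDegree_lt (by simpa using hlt)]
    simp [max_eq_left hlt.le]

theorem pingpong (n B : ℕ) : ∀ (L : List (ℕ × Bool)) (x : ℕ × Bool),
    FreeGroup.IsReduced (x :: L) → (∀ y ∈ x :: L, lexp y ≤ B ∧ rexp y ≤ B) →
    ∃ N : Matrix (Fin 4) (Fin 4) F[X],
      ((x :: L).map (letterM (2 ^ (n + 1)) (X : F[X]))).prod
        = zM (2 ^ (n + 1)) (X ^ lexp x) * N ∧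
      (∀ j : Fin 4, j ≠ 0 → (N j 0).natDegree < (N 0 0).natDegree) ∧
      (N 0 0).natDegree ≤ (L.length + 1) * (B * 2 ^ (n + 1))
  | [], x, _, hB => by
    have he : 2 ≤ 2 ^ (n + 1) := Nat.le_self_pow (by omega) 2
    have hx : 0 < rexp x := by unfold rexp; split <;> omega
    have h2 : rexp x < rexp x * 2 ^ (n + 1) := lt_mul_right hx he
    refine ⟨wM * zM (2 ^ (n + 1)) (X ^ rexp x), by simp [letterM, mul_assoc], ?_, ?_⟩
    · intro j hj
      fin_cases j <;> simp [wM, zM, ← pow_mul] at hj ⊢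
      all_goals first
        | exact h2
        | exact (Nat.zero_lt_of_lt h2)
        | omega
    · simp [wM, zM, ← pow_mul]
      exact (hB x (by simp)).2
  | y :: L, x, h, hB => by
    rw [FreeGroup.isReduced_cons_cons] at h
    obtain ⟨N, hN, hdeg, hbd⟩ := pingpong n B L y h.2 (fun z hz => hB z (List.mem_cons_of_mem _ hz))
    set s : F[X] := X ^ rexp x + X ^ lexp y
    have he : 2 ≤ 2 ^ (n + 1) := Nat.le_self_pow (by omega) 2
    have hs : s.natDegree = max (rexp x) (lexp y) := junctionDeg h.1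
    have hx : 0 < rexp x := by unfold rexp; split <;> omega
    have hspos : 0 < s.natDegree := by rw [hs]; omega
    have hsB : s.natDegree ≤ B := by
      rw [hs]; exact max_le (hB x (by simp)).2 (hB y (by simp)).1
    have hs0 : s ≠ 0 := ne_zero_of_natDegree_gt hspos
    have h1 := hdeg 1 (by decide)
    have h2 := hdeg 2 (by decide)
    have h3 := hdeg 3 (by decide)
    have hv0 : N 0 0 ≠ 0 := ne_zero_of_natDegree_gt h1
    set e := 2 ^ (n + 1)
    refine ⟨wM * zM e s * N, ?_, ?_, ?_⟩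
    · rw [List.map_cons, List.prod_cons, hN, letterM, ← zM_mul]
      simp only [mul_assoc]
      rfl
    all_goals
      have hse : (s ^ e * N 0 0).natDegree = e * s.natDegree + (N 0 0).natDegree := by
        rw [natDegree_mul (pow_ne_zero _ hs0) hv0, natDegree_pow]
      have hes : s.natDegree < e * s.natDegree := lt_mul_left hspos he
      have hlow : (s * N 1 0 + N 3 0).natDegree < (s ^ e * N 0 0).natDegree := by
        refine lt_of_le_of_lt (natDegree_add_le _ _) ?_
        refine max_lt (lt_of_le_of_lt natDegree_mul_le ?_) ?_ <;> omega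
      have e0 : (wM * zM e s * N : Matrix (Fin 4) (Fin 4) F[X]) 0 0 = s ^ e * N 0 0 + (s * N 1 0 + N 3 0) := by
        simp [wM, zM, Matrix.mul_apply, Fin.sum_univ_four]; ring
      have hd0 : ((wM * zM e s * N : Matrix (Fin 4) (Fin 4) F[X]) 0 0).natDegree = e * s.natDegree + (N 0 0).natDegree := by
        rw [e0, natDegree_add_eq_left_of_natDegree_lt hlow, hse]
    · intro j hj
      rw [hd0]
      fin_cases j
      · simp at hj
      · have : (wM * zM e s * N : Matrix (Fin 4) (Fin 4) F[X]) 1 0 = s * N 0 0 + N 2 0 := by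
          simp [wM, zM, Matrix.mul_apply, Fin.sum_univ_four]
        simp only [Fin.mk_one, this]
        refine lt_of_le_of_lt (natDegree_add_le _ _) ?_
        refine max_lt (lt_of_le_of_lt natDegree_mul_le ?_) ?_ <;> omega
      · have : (wM * zM e s * N : Matrix (Fin 4) (Fin 4) F[X]) 2 0 = N 1 0 := by
          simp [wM, zM, Matrix.mul_apply, Fin.sum_univ_four]
        simp only [Fin.reduceFinMk, this]
        omega
      · have : (wM * zM e s * N : Matrix (Fin 4) (Fin 4) F[X]) 3 0 = N 0 0 := by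
          simp [wM, zM, Matrix.mul_apply, Fin.sum_univ_four]
        simp only [Fin.reduceFinMk, this]
        omega
    · rw [hd0, List.length_cons]
      have : e * s.natDegree ≤ B * e := by
        rw [mul_comm B]; exact Nat.mul_le_mul_left _ hsB
      calc e * s.natDegree + (N 0 0).natDegree ≤ B * e + (L.length + 1) * (B * e) := by omega
        _ = (L.length + 1 + 1) * (B * e) := by ring

end poly

section field

variable {F : Type*} [Field F] [CharP F 2]

/-- the root element as a unit -/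
def zU (n : ℕ) (b : F) : GL (Fin 4) F :=
  ⟨zM (2 ^ n) b, zM (2 ^ n) b, by rw [zM_mul, CharTwo.add_self_eq_zero, zM_zero],
    by rw [zM_mul, CharTwo.add_self_eq_zero, zM_zero]⟩

/-- the involution as a unit -/
def wU : GL (Fin 4) F := ⟨wM, wM, wM_mul, wM_mul⟩

theorem zU_mem {n : ℕ} {b : F} (hb : (b ^ 2 ^ n) ^ 2 ^ n = b ^ 2) :
    zU n b ∈ Cfsg.Lie.Sz F (2 ^ n) := by
  apply Subgroup.subset_closure
  refine ⟨?_, ?_⟩
  · intro u v
    simp [zU, zM, Cfsg.Lie.altForm4, Matrix.mulVec, dotProduct, Fin.sum_univ_four]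
    linear_combination (b ^ 2 ^ n * u 0 * v 0 + b * u 0 * v 1 + b * u 1 * v 0) *
      (CharTwo.two_eq_zero : (2 : F) = 0)
  · ext i j
    fin_cases i <;> fin_cases j <;>
      simp [zU, zM, Cfsg.Lie.star4, Cfsg.Lie.pairOf, CharTwo.neg_eq, CharTwo.sub_eq_add, hb, sq]

theorem wU_mem (n : ℕ) : (wU : GL (Fin 4) F) ∈ Cfsg.Lie.Sz F (2 ^ n) := by
  apply Subgroup.subset_closure
  refine ⟨?_, ?_⟩
  · intro u v
    simp [wU, wM, Cfsg.Lie.altForm4, Matrix.mulVec, dotProduct, Fin.sum_univ_four]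
    ring
  · ext i j
    fin_cases i <;> fin_cases j <;>
      simp [wU, wM, Cfsg.Lie.star4, Cfsg.Lie.pairOf, CharTwo.neg_eq, CharTwo.sub_eq_add]

/-- the free generators inside the unit group -/
def szGen (n : ℕ) (t : F) (i : ℕ) : GL (Fin 4) F :=
  zU n (t ^ (2 * i + 1)) * wU * zU n (t ^ (2 * i + 2))

theorem szGen_letter (n : ℕ) (t : F) (x : ℕ × Bool) :
    ((cond x.2 (szGen n t x.1) (szGen n t x.1)⁻¹ : GL (Fin 4) F) : Matrix (Fin 4) (Fin 4) F)
      = letterM (2 ^ n) t x := by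
  obtain ⟨i, b⟩ := x
  cases b
  · simp [szGen, letterM, lexp, rexp, _root_.mul_inv_rev, mul_assoc, zU, wU]
  · simp [szGen, letterM, lexp, rexp, zU, wU]

end field

theorem suzuki_value {w : FreeGroup ℕ} (hw : w ≠ 1) :
    ∃ N : ℕ, ∀ (F : Type*) [Field F] [Fintype F] (m : ℕ), N ≤ m →
      Fintype.card F = 2 ^ (2 * m + 1) →
      ∃ f : ℕ → ↥(Cfsg.Lie.Sz F (2 ^ (m + 1))), FreeGroup.lift f w ≠ 1 := by
  have hne : w.toWord ≠ [] := by simpa [FreeGroup.toWord_eq_nil_iff] using hw
  obtain ⟨x, L, hL⟩ := List.exists_cons_of_ne_nil hne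
  have hred : FreeGroup.IsReduced (x :: L) := hL ▸ FreeGroup.isReduced_toWord
  set B := ((x :: L).map (fun y => max (lexp y) (rexp y))).sum with hBdef
  have hB : ∀ y ∈ x :: L, lexp y ≤ B ∧ rexp y ≤ B := fun y hy => by
    have : max (lexp y) (rexp y) ≤ B :=
      List.single_le_sum (fun _ _ => Nat.zero_le _) _ (List.mem_map_of_mem hy)
    omega
  refine ⟨(L.length + 1) * B + 1, fun F _ _ m hm hcard => ?_⟩
  have : CharP F 2 := charP_of_card_eq_prime_pow (f := 2 * m + 1) hcard
  obtain ⟨N, hN, hdeg, hbd⟩ := pingpong (F := F) m B L x hred hB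
  set M : Matrix (Fin 4) (Fin 4) F[X] :=
    ((x :: L).map (letterM (2 ^ (m + 1)) (X : F[X]))).prod with hM
  have hM0 : M 0 0 = N 0 0 := by
    rw [hN]; simp [zM, Matrix.mul_apply, Fin.sum_univ_four]
  set P : F[X] := M 0 0 - 1 with hP
  have hpos : 0 < (N 0 0).natDegree := Nat.zero_lt_of_lt (hdeg 1 (by decide))
  have hPdeg : P.natDegree = (N 0 0).natDegree := by
    rw [hP, hM0, natDegree_sub_eq_left_of_natDegree_lt (by simpa using hpos)]
  have hP0 : P ≠ 0 := ne_zero_of_natDegree_gt (hPdeg ▸ hpos)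
  have hlt : P.natDegree < Fintype.card F := by
    rw [hPdeg, hcard]
    refine lt_of_le_of_lt hbd ?_
    have hm2 : (L.length + 1) * B < 2 ^ m := lt_of_lt_of_le hm Nat.lt_two_pow_self.le
    have he : 2 ^ (2 * m + 1) = 2 ^ m * 2 ^ (m + 1) := by rw [← pow_add]; congr 1; omega
    rw [he, ← mul_assoc]
    exact Nat.mul_lt_mul_of_pos_right hm2 (Nat.two_pow_pos _)
  obtain ⟨t, ht⟩ : ∃ t : F, P.eval t ≠ 0 := by
    by_contra h
    push Not at h
    have := card_le_degree_of_subset_roots (p := P) (Z := Finset.univ)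
      (fun t _ => (mem_roots hP0).mpr (h t))
    rw [Finset.card_univ] at this
    omega
  have hfr : ∀ b : F, (b ^ 2 ^ (m + 1)) ^ 2 ^ (m + 1) = b ^ 2 := by
    intro b
    rw [← pow_mul, ← pow_add, show m + 1 + (m + 1) = (2 * m + 1) + 1 by omega, pow_succ, pow_mul,
      ← hcard, FiniteField.pow_card]
  refine ⟨fun i => ⟨szGen (m + 1) t i, mul_mem (mul_mem (zU_mem (hfr _)) (wU_mem _))
    (zU_mem (hfr _))⟩, fun h1 => ht ?_⟩
  have h2 := congrArg (fun g : ↥(Cfsg.Lie.Sz F (2 ^ (m + 1))) =>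
    ((g : GL (Fin 4) F) : Matrix (Fin 4) (Fin 4) F)) h1
  simp only [OneMemClass.coe_one, Units.val_one] at h2
  rw [← FreeGroup.mk_toWord (x := w), hL, FreeGroup.lift_mk, SubmonoidClass.coe_list_prod,
    ← Units.coeHom_apply, map_list_prod, List.map_map, List.map_map] at h2
  simp only [Function.comp_assoc] at h2
  have hlet : (Units.coeHom _ ∘ Subtype.val ∘ fun y : ℕ × Bool => cond y.2
        (⟨szGen (m + 1) t y.1, mul_mem (mul_mem (zU_mem (hfr _)) (wU_mem _))
          (zU_mem (hfr _))⟩ : ↥(Cfsg.Lie.Sz F (2 ^ (m + 1))))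
        (⟨szGen (m + 1) t y.1, mul_mem (mul_mem (zU_mem (hfr _)) (wU_mem _))
          (zU_mem (hfr _))⟩ : ↥(Cfsg.Lie.Sz F (2 ^ (m + 1))))⁻¹) = letterM (2 ^ (m + 1)) t := by
    funext y
    rw [← szGen_letter]
    rcases y with ⟨i, _ | _⟩ <;> simp
  rw [hlet] at h2
  have h3 : (evalRingHom t).mapMatrix M = 1 := by
    rw [hM, map_list_prod, List.map_map]
    have : ((evalRingHom t).mapMatrix ∘ letterM (2 ^ (m + 1)) (X : F[X]))
        = letterM (2 ^ (m + 1)) t := by
      funext y; simp only [Function.comp_apply, letterM_map, coe_evalRingHom, eval_X]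
    rw [this]; exact h2
  have h4 := congrFun (congrFun h3 0) 0
  simp only [RingHom.mapMatrix_apply, Matrix.map_apply, coe_evalRingHom, Matrix.one_apply_eq] at h4
  simp [hP, h4]

end Cfsg.Agent.WordLaw.Suzuki
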