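import Cfsg.Agent.WordLaw.Classical
import Mathlib.GroupTheory.SpecificGroups.Alternating.Centralizer

set_option autoImplicit false

namespace Cfsg.Agent.WordLaw.Classical

open Matrix Cfsg.Agent.WordLaw

universe u

theorem false_of_law {G H : Type*} [Group G] [Group H] {w : FreeGroup ℕ}
    (e : G ≃* H ⧸ Subgroup.center H) (hlaw : ∀ f : ℕ → G, FreeGroup.lift f w = 1)
    (h : NoncentralValue H w) : False := by
  obtain ⟨f, hf⟩ := h.exists_quot
  apply hf
  have := lift_comp e.toMonoidHom (fun i => e.symm (f i)) w
  simp only [MulEquiv.toMonoidHom_eq_coe, MonoidHom.coe_coe, MulEquiv.apply_symm_apply] at this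
  rw [this, hlaw, map_one]

theorem card_le {G H : Type*} [Group G] [Group H] (e : G ≃* H ⧸ Subgroup.center H)
    {ι : Type} [Fintype ι] [DecidableEq ι] {F : Type*} [Fintype F] (β : H → Matrix ι ι F)
    (hβ : Function.Injective β) :
    Nat.card G ≤ Fintype.card F ^ (Fintype.card ι * Fintype.card ι) := by
  haveI : Finite (Matrix ι ι F) := inferInstanceAs (Finite (ι → ι → F))
  haveI : Finite H := Finite.of_injective β hβ
  calc Nat.card G = Nat.card (H ⧸ Subgroup.center H) := Nat.card_congr e.toEquiv
    _ ≤ Nat.card H := Nat.card_le_card_of_surjective _ QuotientGroup.mk_surjective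
    _ ≤ Nat.card (Matrix ι ι F) := Nat.card_le_card_of_injective β hβ
    _ = Fintype.card F ^ (Fintype.card ι * Fintype.card ι) := by
      rw [show Nat.card (Matrix ι ι F) = Nat.card (ι → ι → F) from rfl]
      simp [← pow_mul]

theorem pow_bound {a b A B : ℕ} (ha : a ≤ A) (hb : b ≤ B) (hA : 1 ≤ A) :
    a ^ (b * b) ≤ A ^ (B * B) :=
  (Nat.pow_le_pow_left ha _).trans (Nat.pow_le_pow_right hA (Nat.mul_le_mul hb hb))

theorem two_add {n : ℕ} (hn : 2 ≤ n) : ∃ r, n = 2 + r := ⟨n - 2, by omega⟩

variable {w : FreeGroup ℕ}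

theorem alt_commutator {n : ℕ} (hn : 5 ≤ n) (h : NoncentralValue (alternatingGroup (Fin n)) w) :
    NoncentralValue (commutator (alternatingGroup (Fin n))) w := by
  rw [commutator_alternatingGroup_eq_top (by simpa using hn)]
  exact h.map (Subgroup.topEquiv (G := alternatingGroup (Fin n))).symm.toMonoidHom
    (Subgroup.topEquiv (G := alternatingGroup (Fin n))).symm.injective

theorem bound (hw : w ≠ 1) : ∃ N : ℕ, ∀ (G : Type u) [Group G] [Finite G],
    (Cfsg.IsAlternating G ∨ Cfsg.IsPSL G ∨ Cfsg.IsPSp G ∨ Cfsg.IsPSU G ∨ Cfsg.IsPOmegaOdd G ∨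
        Cfsg.IsPOmegaPlus G ∨ Cfsg.IsPOmegaMinus G) →
    (∀ f : ℕ → G, FreeGroup.lift f w = 1) → Nat.card G ≤ N := by
  obtain ⟨D, hD⟩ := exists_bound.{0} hw
  obtain ⟨Q, hQ⟩ := sl2_noncentral.{0} hw
  obtain ⟨Q', hQ'⟩ := sl2_commutator_noncentral.{0} hw
  obtain ⟨A, hA5, hA⟩ := alt_noncentral hw
  set B := (Q + Q' + D + 2) ^ 2 with hB
  set C := 2 * A + 4 with hC
  have hB1 : 1 ≤ B := Nat.one_le_pow _ _ (by omega)
  have hBQ : Q + Q' + D + 2 ≤ B := Nat.le_self_pow (by norm_num) _
  refine ⟨max A.factorial (B ^ (C * C)), fun G _ _ hG hlaw => ?_⟩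
  -- orthogonal embeddings
  have orth : ∀ {F : Type} [Field F] [Fintype F] {ι : Type} [Fintype ι] [DecidableEq ι]
      {Q : (ι → F) → F} {r : ℕ}, 2 ≤ r → ∀ (β : GL (Fin r) F →* Matrix ι ι F),
      (∀ g v, Q (β g *ᵥ v) = Q v) → Function.Injective β →
      ∀ (e : G ≃* Cfsg.POmega F Q), r < A ∧ Fintype.card F < Q' := by
    intro F _ _ ι _ _ Q r hr β hpres hinj e
    constructor <;> by_contra hcon
    · refine false_of_law e hlaw
        ((alt_commutator (by omega) (hA r (by omega))).map_commutator
          ((toIso β hpres).comp (altMat (F := F) r).toHomUnits) ?_)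
      exact (toIso_injective β hpres hinj).comp
        (toHomUnits_injective _ (altMat_injective r))
    · obtain ⟨s, rfl⟩ := two_add hr
      refine false_of_law e hlaw ((hQ' F (by omega)).map_commutator
          ((toIso β hpres).comp (sl2Block (F := F) s).toHomUnits) ?_)
      exact (toIso_injective β hpres hinj).comp
        (toHomUnits_injective _ (sl2Block_injective s))
  rcases hG with h | h | h | h | h | h | h
  · -- alternating
    obtain ⟨n, hn, ⟨e⟩⟩ := h
    refine le_max_of_le_left ?_
    have hlt : n < A := by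
      by_contra hcon
      obtain ⟨f, hf⟩ := (hA n (by omega)).ne_one
      apply hf
      have := lift_comp e.toMonoidHom (fun i => e.symm (f i)) w
      simp only [MulEquiv.toMonoidHom_eq_coe, MonoidHom.coe_coe, MulEquiv.apply_symm_apply] at this
      rw [this, hlaw, map_one]
    calc Nat.card G = Nat.card (alternatingGroup (Fin n)) := Nat.card_congr e.toEquiv
      _ ≤ Nat.card (Equiv.Perm (Fin n)) :=
        Nat.card_le_card_of_injective _ Subtype.val_injective
      _ = n.factorial := by rw [Nat.card_perm, Nat.card_eq_fintype_card, Fintype.card_fin]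
      _ ≤ A.factorial := Nat.factorial_le hlt.le
  · -- linear
    obtain ⟨F, _, _, n, hn, -, ⟨e⟩⟩ := h
    refine le_max_of_le_right ?_
    have h1 : n < A := by
      by_contra hcon
      exact false_of_law e hlaw ((hA n (by omega)).map (toSL _ (altMat_det (F := F) n))
        (toSL_injective _ _ (altMat_injective n)))
    have h2 : Fintype.card F < Q := by
      by_contra hcon
      obtain ⟨s, rfl⟩ := two_add hn
      exact false_of_law e hlaw ((hQ F (by omega)).map
        (toSL (sl2Block (F := F) s) (fun M => by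
          show (blockHom s M.1).det = 1
          rw [blockHom_det]; exact M.2))
        (toSL_injective _ _ (sl2Block_injective s)))
    exact (card_le e (fun x => x.1) Subtype.val_injective).trans
      (pow_bound (by omega) (by simp; omega) hB1)
  · -- symplectic
    obtain ⟨F, _, _, n, hn, -, ⟨e⟩⟩ := h
    refine le_max_of_le_right ?_
    have h1 : n < A := by
      by_contra hcon
      refine false_of_law e hlaw ((hA n (by omega)).map
        (toSp.comp (altMat (F := F) n).toHomUnits) ?_)
      exact toSp_injective.comp (toHomUnits_injective _ (altMat_injective n))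
    have h2 : Fintype.card F < Q := by
      by_contra hcon
      obtain ⟨s, rfl⟩ := two_add hn
      refine false_of_law e hlaw ((hQ F (by omega)).map
        (toSp.comp (sl2Block (F := F) s).toHomUnits) ?_)
      exact toSp_injective.comp (toHomUnits_injective _ (sl2Block_injective s))
    exact (card_le e (fun x => x.1) Subtype.val_injective).trans
      (pow_bound (by omega) (by simp; omega) hB1)
  · -- unitary
    obtain ⟨F, _, _, n, q, hF, hn, -, ⟨e⟩⟩ := h
    refine le_max_of_le_right ?_
    obtain ⟨σ, hσ, hσσ⟩ := exists_conj hF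
    have h1 : n < A := by
      by_contra hcon
      refine false_of_law e hlaw ((hA n (by omega)).map
        (toSU σ hσ _ (altMat_det (F := F) n) (altMat_unitary σ)) ?_)
      intro a b hab
      exact altMat_injective n (congrArg (fun x : Cfsg.SU n F q => x.1.1) hab)
    have h2 : q ≤ D + 1 := by
      by_contra hcon
      obtain ⟨s, rfl⟩ := two_add (show 2 ≤ n by omega)
      obtain ⟨S, hScard, hSfix⟩ := exists_fixed_set hF σ hσ
      obtain ⟨t, htS, ht⟩ := hD F S (by omega)
      obtain ⟨P, d, hd, hP⟩ := exists_unitary_data hF σ hσ hσσ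
      have hPu : IsUnit P.det := by
        rw [isUnit_iff_ne_zero]
        intro h0
        have := congrArg Matrix.det hP
        rw [det_mul, det_transpose, h0, zero_mul, det_fin_two_of] at this
        exact hd (by simpa using this.symm)
      let U : GL (Fin 2) F := P.nonsingInvUnit hPu
      let φ : fixedSL σ →* Matrix (Fin 2) (Fin 2) F :=
        ((Units.coeHom _).comp (MulAut.conj U).toMonoidHom).comp
          (SpecialLinearGroup.toGL.comp (fixedSL σ).subtype)
      have hφinj : Function.Injective φ := fun a b hab =>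
        Subtype.ext (SpecialLinearGroup.toGL_injective
          ((MulAut.conj U).injective (Units.ext hab)))
      have hφ : ∀ M : fixedSL σ, φ M = P * M.1.1 * P⁻¹ := fun M => rfl
      have hφu : ∀ M, (φ M)ᵀ * (φ M).map σ = 1 := by
        intro M
        have hM : M.1.1.map σ = M.1.1 := congrArg Subtype.val M.2
        have hinv : IsUnit (Pᵀ).det := by rwa [det_transpose]
        have hinv' : IsUnit (P.map σ).det := by
          rw [← RingHom.mapMatrix_apply, ← RingHom.map_det]; exact hPu.map σ
        have hmap : (φ M).map σ = P.map σ * M.1.1 * (P.map σ)⁻¹ := by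
          have h : (φ M).map σ * P.map σ = P.map σ * M.1.1 := by
            rw [← Matrix.map_mul, hφ, nonsing_inv_mul_cancel_right _ _ hPu, Matrix.map_mul, hM]
          rw [← h, mul_nonsing_inv_cancel_right _ _ hinv']
        have hJ : M.1.1ᵀ * !![0, d; -d, 0] * M.1.1 = !![0, d; -d, 0] := by
          have hdet : M.1.1.det = 1 := M.1.2
          rw [det_fin_two] at hdet
          ext i j
          fin_cases i <;> fin_cases j <;> simp [Matrix.mul_apply, Fin.sum_univ_two]
          · ring
          · linear_combination d * hdet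
          · linear_combination -d * hdet
          · ring
        rw [hmap, hφ, transpose_mul, transpose_mul, transpose_nonsing_inv]
        calc (Pᵀ)⁻¹ * (M.1.1ᵀ * Pᵀ) * (P.map σ * M.1.1 * (P.map σ)⁻¹)
            = (Pᵀ)⁻¹ * (M.1.1ᵀ * (Pᵀ * P.map σ) * M.1.1) * (P.map σ)⁻¹ := by
              simp only [Matrix.mul_assoc]
          _ = (Pᵀ)⁻¹ * (Pᵀ * P.map σ) * (P.map σ)⁻¹ := by rw [hP, hJ]
          _ = 1 := by
            rw [nonsing_inv_mul_cancel_left _ _ hinv, mul_nonsing_inv _ hinv']
      let β : fixedSL σ →* Matrix (Fin (2 + s)) (Fin (2 + s)) F := (blockHom s).comp φ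
      have hdet : ∀ M, (β M).det = 1 := by
        intro M
        show (blockHom s (φ M)).det = 1
        rw [blockHom_det, hφ, det_conj ((isUnit_iff_isUnit_det P).mpr hPu)]
        exact M.1.2
      have hgen : ∀ i, gen t i ∈ fixedSL σ := fun i => by
        show SpecialLinearGroup.map σ (gen t i) = gen t i
        rw [map_gen, hSfix t htS]
      have hone : uu (1 : F) ∈ fixedSL σ := by
        show SpecialLinearGroup.map σ (uu 1) = uu 1
        rw [map_uu, map_one]
      have hnc : NoncentralValue (fixedSL σ) w := by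
        refine ⟨fun i => ⟨gen t i, hgen i⟩, ⟨uu 1, hone⟩, fun h => noncomm_of_entry ht ?_⟩
        have h' := congrArg Subtype.val h
        simp only [Subgroup.coe_mul] at h'
        rw [← Subgroup.coe_subtype, ← lift_comp] at h'
        exact h'
      refine false_of_law e hlaw (hnc.map
        (toSU σ hσ β hdet (fun M => blockHom_unitary σ s _ (hφu M))) ?_)
      intro a b hab
      exact hφinj (blockHom_injective s (congrArg (fun x : Cfsg.SU (2 + s) F q => x.1.1) hab))
    refine (card_le e (fun x => x.1.1)
      (fun a b hab => Subtype.ext (Subtype.ext hab))).trans (pow_bound ?_ (by simp; omega) hB1)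
    rw [hF]; exact Nat.pow_le_pow_left (by omega) 2
  · -- orthogonal, odd
    obtain ⟨F, _, _, n, hn, -, ⟨e⟩⟩ := h
    refine le_max_of_le_right ?_
    obtain ⟨h1, h2⟩ := orth (by omega) oddMat odd_pres oddMat_injective e
    exact (card_le (H := Cfsg.Omega F (Cfsg.quadFormOdd n F)) (ι := Unit ⊕ (Fin n ⊕ Fin n)) (F := F) e
      (fun x => x.1.1.1)
      (fun a b hab => Subtype.ext (Subtype.ext (Units.ext hab)))).trans
      (pow_bound (by omega) (by simp; omega) hB1)
  · -- orthogonal, plus
    obtain ⟨F, _, _, n, hn, ⟨e⟩⟩ := h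
    refine le_max_of_le_right ?_
    obtain ⟨h1, h2⟩ := orth (by omega) dbl plus_pres dbl_injective e
    exact (card_le (H := Cfsg.Omega F (Cfsg.quadFormPlus n F)) (ι := Fin n ⊕ Fin n) (F := F) e
      (fun x => x.1.1.1)
      (fun a b hab => Subtype.ext (Subtype.ext (Units.ext hab)))).trans
      (pow_bound (by omega) (by simp; omega) hB1)
  · -- orthogonal, minus
    obtain ⟨F, _, _, n, a, b, hn, -, ⟨e⟩⟩ := h
    refine le_max_of_le_right ?_
    obtain ⟨h1, h2⟩ := orth (by omega) minusMat (minus_pres a b) minusMat_injective e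
    exact (card_le (H := Cfsg.Omega F (Cfsg.quadFormMinus (n - 1) F a b)) (ι := (Fin (n - 1) ⊕ Fin (n - 1)) ⊕ Fin 2) (F := F) e
      (fun x => x.1.1.1)
      (fun a b hab => Subtype.ext (Subtype.ext (Units.ext hab)))).trans
      (pow_bound (by omega) (by simp; omega) hB1)

end Cfsg.Agent.WordLaw.Classical
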