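import Mathlib.GroupTheory.FreeGroup.Reduce
import Mathlib.LinearAlgebra.Matrix.SpecialLinearGroup
import Mathlib.Algebra.Polynomial.Roots
import Mathlib.Tactic.FinCases
import Mathlib.Tactic.LinearCombination
import Mathlib.Algebra.Polynomial.Degree.Lemmas

/-!
A free family of polynomial matrices in `SL₂` and its consequences for word laws.
-/

set_option autoImplicit false

namespace Cfsg.Agent.WordLaw

open Polynomial Matrix

variable {R : Type*} [CommRing R]

/-- upper unitriangular element -/
def uu (a : R) : SpecialLinearGroup (Fin 2) R :=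
  ⟨!![1, a; 0, 1], by simp [Matrix.det_fin_two_of]⟩

/-- lower unitriangular element -/
def ll (a : R) : SpecialLinearGroup (Fin 2) R :=
  ⟨!![1, 0; a, 1], by simp [Matrix.det_fin_two_of]⟩

@[simp] theorem uu_coe (a : R) : (uu a : Matrix (Fin 2) (Fin 2) R) = !![1, a; 0, 1] := rfl
@[simp] theorem ll_coe (a : R) : (ll a : Matrix (Fin 2) (Fin 2) R) = !![1, 0; a, 1] := rfl

theorem uu_mul (a b : R) : uu a * uu b = uu (a + b) := by
  apply Subtype.ext
  ext i j
  fin_cases i <;> fin_cases j <;> simp [add_comm]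

theorem ll_mul (a b : R) : ll a * ll b = ll (a + b) := by
  apply Subtype.ext
  ext i j
  fin_cases i <;> fin_cases j <;> simp

theorem uu_zero : uu (0 : R) = 1 := by
  apply Subtype.ext; ext i j; fin_cases i <;> fin_cases j <;> simp

theorem ll_zero : ll (0 : R) = 1 := by
  apply Subtype.ext; ext i j; fin_cases i <;> fin_cases j <;> simp

theorem uu_inv (a : R) : (uu a)⁻¹ = uu (-a) :=
  inv_eq_of_mul_eq_one_right (by rw [uu_mul, add_neg_cancel, uu_zero])

theorem ll_inv (a : R) : (ll a)⁻¹ = ll (-a) :=
  inv_eq_of_mul_eq_one_right (by rw [ll_mul, add_neg_cancel, ll_zero])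

/-- the generators of the free group -/
def gen (t : R) (i : ℕ) : SpecialLinearGroup (Fin 2) R :=
  uu (t ^ (2 * i + 1)) * ll t * uu (t ^ (2 * i + 2))

theorem map_uu {S : Type*} [CommRing S] (f : R →+* S) (a : R) :
    SpecialLinearGroup.map f (uu a) = uu (f a) := by
  apply Subtype.ext; ext i j; rw [SpecialLinearGroup.map_apply_coe]; fin_cases i <;> fin_cases j <;> simp

theorem map_ll {S : Type*} [CommRing S] (f : R →+* S) (a : R) :
    SpecialLinearGroup.map f (ll a) = ll (f a) := by
  apply Subtype.ext; ext i j; rw [SpecialLinearGroup.map_apply_coe]; fin_cases i <;> fin_cases j <;> simp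

theorem map_gen {S : Type*} [CommRing S] (f : R →+* S) (t : R) (i : ℕ) :
    SpecialLinearGroup.map f (gen t i) = gen (f t) i := by
  simp [gen, map_uu, map_ll]

theorem map_lift_gen {S : Type*} [CommRing S] (f : R →+* S) (t : R) (w : FreeGroup ℕ) :
    SpecialLinearGroup.map f (FreeGroup.lift (gen t) w) = FreeGroup.lift (gen (f t)) w := by
  have h : (SpecialLinearGroup.map f).comp (FreeGroup.lift (gen t)) = FreeGroup.lift (gen (f t)) := by
    ext i; simp [map_gen]
  exact DFunLike.congr_fun h w

section poly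

variable {F : Type*} [Field F]

/-- exponent of the left parameter of a letter -/
def lexp (x : ℕ × Bool) : ℕ := if x.2 then 2 * x.1 + 1 else 2 * x.1 + 2

/-- exponent of the right parameter of a letter -/
def rexp (x : ℕ × Bool) : ℕ := if x.2 then 2 * x.1 + 2 else 2 * x.1 + 1

/-- sign of a letter -/
noncomputable def sgn (x : ℕ × Bool) : F[X] := if x.2 then 1 else -1

/-- value of a letter -/
noncomputable def letter (x : ℕ × Bool) : SpecialLinearGroup (Fin 2) F[X] :=
  cond x.2 (gen X x.1) (gen X x.1)⁻¹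

theorem letter_eq (x : ℕ × Bool) :
    (letter x : SpecialLinearGroup (Fin 2) F[X]) =
      uu (sgn x * X ^ lexp x) * ll (sgn x * X) * uu (sgn x * X ^ rexp x) := by
  obtain ⟨i, b⟩ := x
  cases b
  · simp only [letter, gen, lexp, rexp, sgn, cond_false, mul_inv_rev, uu_inv, ll_inv]
    simp [mul_assoc]
  · simp [letter, gen, lexp, rexp, sgn]

theorem degree_sgn (x : ℕ × Bool) : degree (sgn x : F[X]) = 0 := by
  unfold sgn; split <;> simp

theorem degree_sgn_mul (x : ℕ × Bool) (n : ℕ) : degree (sgn x * X ^ n : F[X]) = n := by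
  rw [degree_mul, degree_sgn, degree_X_pow, zero_add]

theorem junction {x y : ℕ × Bool} (h : x.1 = y.1 → x.2 = y.2) : rexp x ≠ lexp y := by
  obtain ⟨i, b⟩ := x
  obtain ⟨j, c⟩ := y
  intro he
  cases b <;> cases c <;> simp [rexp, lexp] at he h <;> omega

theorem degree_junction {x y : ℕ × Bool} (h : x.1 = y.1 → x.2 = y.2) :
    (0 : WithBot ℕ) < degree (sgn x * X ^ rexp x + sgn y * X ^ lexp y : F[X]) := by
  have hx : (0:ℕ) < rexp x := by unfold rexp; split <;> omega
  have hy : (0:ℕ) < lexp y := by unfold lexp; split <;> omega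
  rcases lt_or_gt_of_ne (junction h) with hlt | hlt
  · rw [degree_add_eq_right_of_degree_lt (by
      rw [degree_sgn_mul, degree_sgn_mul]; exact_mod_cast hlt), degree_sgn_mul]
    exact_mod_cast hy
  · rw [degree_add_eq_left_of_degree_lt (by
      rw [degree_sgn_mul, degree_sgn_mul]; exact_mod_cast hlt), degree_sgn_mul]
    exact_mod_cast hx

theorem step {d s v0 v1 : F[X]} (hd : 0 < degree d) (hs : 0 < degree s)
    (hv : degree v0 < degree v1) :
    degree (v0 + s * v1) < degree (v1 + d * (v0 + s * v1)) := by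
  have h1 : v1 ≠ 0 := by
    intro h; rw [h, degree_zero] at hv; exact not_lt_bot hv
  have hs0 : s ≠ 0 := by intro h; rw [h, degree_zero] at hs; exact not_lt_bot hs
  have hd0 : d ≠ 0 := by intro h; rw [h, degree_zero] at hd; exact not_lt_bot hd
  have key : ∀ {a b : F[X]}, a ≠ 0 → b ≠ 0 → 0 < degree a → degree b < degree (a * b) := by
    intro a b ha hb hpos
    rw [degree_mul, degree_eq_natDegree ha, degree_eq_natDegree hb] at *
    exact_mod_cast Nat.lt_add_of_pos_left (by exact_mod_cast hpos)
  have e1 : degree (v0 + s * v1) = degree (s * v1) :=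
    degree_add_eq_right_of_degree_lt (hv.trans (key hs0 h1 hs))
  have hne : v0 + s * v1 ≠ 0 := by
    intro h; rw [h, degree_zero] at e1; exact mul_ne_zero hs0 h1 (degree_eq_bot.mp e1.symm)
  have e2 : degree (v0 + s * v1) < degree (d * (v0 + s * v1)) := key hd0 hne hd
  have e3 : degree v1 < degree (d * (v0 + s * v1)) :=
    (key hs0 h1 hs).trans (e1 ▸ e2)
  rw [degree_add_eq_right_of_degree_lt e3]
  exact e2

theorem pingpong : ∀ (L : List (ℕ × Bool)) (x : ℕ × Bool), FreeGroup.IsReduced (x :: L) →
    ∃ N : SpecialLinearGroup (Fin 2) F[X],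
      ((x :: L).map letter).prod = uu (sgn x * X ^ lexp x) * N ∧
      degree (N.1 0 0) < degree (N.1 1 0)
  | [], x, _ => by
    refine ⟨ll (sgn x * X) * uu (sgn x * X ^ rexp x), by simp [letter_eq, mul_assoc], ?_⟩
    simpa [degree_sgn, degree_one] using (by norm_num : (0 : WithBot ℕ) < 1)
  | y :: L, x, h => by
    rw [FreeGroup.isReduced_cons_cons] at h
    obtain ⟨N, hN, hdeg⟩ := pingpong L y h.2
    refine ⟨ll (sgn x * X) * uu (sgn x * X ^ rexp x + sgn y * X ^ lexp y) * N, ?_, ?_⟩
    · rw [List.map_cons, List.prod_cons, hN, letter_eq, ← uu_mul]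
      simp only [mul_assoc]
    · have hd : (0 : WithBot ℕ) < degree (sgn x * X : F[X]) := by
        simp [degree_sgn]
      have := step hd (degree_junction h.1) hdeg
      convert this using 2
      · simp [Matrix.mul_apply, Fin.sum_univ_two]
      · simp [Matrix.mul_apply, Fin.sum_univ_two, Matrix.vecMul, dotProduct]
        ring

theorem lift_gen_ne_zero {w : FreeGroup ℕ} (hw : w ≠ 1) :
    (FreeGroup.lift (gen (X : F[X])) w).1 1 0 ≠ 0 := by
  have hred : FreeGroup.IsReduced w.toWord := FreeGroup.isReduced_toWord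
  have hne : w.toWord ≠ [] := by simpa [FreeGroup.toWord_eq_nil_iff] using hw
  obtain ⟨x, L, hL⟩ := List.exists_cons_of_ne_nil hne
  rw [hL] at hred
  obtain ⟨N, hN, hdeg⟩ := pingpong (F := F) L x hred
  have e : FreeGroup.lift (gen (X : F[X])) w = uu (sgn x * X ^ lexp x) * N := by
    rw [← hN, ← hL]
    conv_lhs => rw [← FreeGroup.mk_toWord (x := w)]
    rw [FreeGroup.lift_mk]
    rfl
  rw [e]
  intro h
  simp [Matrix.mul_apply, Fin.sum_univ_two] at h
  simp [h] at hdeg

end poly

/-- For `w ≠ 1` there is a bound `D` such that in every field, every set of more than `D`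
scalars contains one whose generic value of `w` is not upper triangular. -/
theorem exists_bound {w : FreeGroup ℕ} (hw : w ≠ 1) :
    ∃ D : ℕ, ∀ (F : Type*) [Field F] (S : Finset F), D < S.card →
      ∃ t ∈ S, (FreeGroup.lift (gen t) w).1 1 0 ≠ 0 := by
  refine ⟨((FreeGroup.lift (gen (X : ℤ[X])) w).1 1 0).natDegree, ?_⟩
  intro F _ S hS
  by_contra hcon
  push Not at hcon
  let P : F[X] := (FreeGroup.lift (gen (X : F[X])) w).1 1 0
  have hP : P ≠ 0 := lift_gen_ne_zero hw
  have hdeg : P.natDegree ≤ ((FreeGroup.lift (gen (X : ℤ[X])) w).1 1 0).natDegree := by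
    have := map_lift_gen (mapRingHom (Int.castRingHom F)) (X : ℤ[X]) w
    simp only [coe_mapRingHom, map_X] at this
    show ((FreeGroup.lift (gen (X : F[X])) w).1 1 0).natDegree ≤ _
    rw [← this]
    exact natDegree_map_le
  have hsub : S.val ⊆ P.roots := by
    intro t ht
    rw [mem_roots hP]
    have := map_lift_gen (evalRingHom t) (X : F[X]) w
    simp only [coe_evalRingHom, eval_X] at this
    have h2 := hcon t ht
    rw [← this] at h2
    exact h2
  have := card_le_degree_of_subset_roots hsub
  omega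

end Cfsg.Agent.WordLaw
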